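import Groth.Agent.ArtLib.Formal
import Groth.Agent.ArtLib.Complete
import Groth.Agent.CohenLib.FSRegular

/-!
# A Noetherian local algebra with smooth functor of points is regular
-/

set_option autoImplicit false
set_option linter.style.haveILetI false
universe u

open CategoryTheory ArtFun ArtFun.Art IsLocalRing

namespace HilbSmoothLib

variable {k : Type u} [Field k]

/-- A Noetherian local `k`-algebra with residue field `k` whose `h_R` is smooth is regular. -/
theorem isRegularLocalRing_of_isSmoothFunctor (R : Type u) [CommRing R] [IsLocalRing R] [IsNoetherianRing R]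
    [Algebra k R] (res : R →ₐ[k] k) (h : IsSmoothFunctor (hR R res)) : IsRegularLocalRing R := by
  have hres : Function.Surjective res := fun c => ⟨algebraMap k R c, res.commutes c⟩
  have hker : RingHom.ker (res : R →+* k) = maximalIdeal R :=
    IsLocalRing.eq_maximalIdeal (RingHom.ker_isMaximal_of_surjective _ hres)
  have hbij : Function.Bijective (algebraMap k (ResidueField R)) := by
    refine ⟨RingHom.injective _, fun z => ?_⟩
    obtain ⟨r, rfl⟩ := IsLocalRing.residue_surjective z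
    refine ⟨res r, ?_⟩
    have hm : r - algebraMap k R (res r) ∈ maximalIdeal R := by
      rw [← hker, RingHom.mem_ker]
      show res (r - algebraMap k R (res r)) = 0
      rw [map_sub, AlgHom.commutes, Algebra.algebraMap_self, RingHom.id_apply, sub_self]
    rw [IsScalarTower.algebraMap_apply k R (ResidueField R), ← sub_eq_zero, ResidueField.algebraMap_eq, ← map_sub,
      residue_eq_zero_iff]
    simpa using neg_mem hm
  haveI : Algebra.FormallySmooth k (ResidueField R) :=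
    Algebra.FormallySmooth.of_equiv (AlgEquiv.ofBijective (Algebra.ofId k (ResidueField R)) hbij)
  refine CohenLib.isRegularLocalRing_of_liftsAdic (k := k) fun A _ _ J hJ ψ ⟨m, hm⟩ => ?_
  have hsub : ArtLib.IsSub res (maximalIdeal R ^ (m + 1)) :=
    ⟨fun p hp => (RingHom.mem_ker (f := (res : R →+* k))).1 (hker.ge (Ideal.pow_le_self (Nat.succ_ne_zero m) hp)),
      ⟨m + 1, by rw [hker]⟩⟩
  obtain ⟨C₀, tr, htr, htr0⟩ : ∃ (C₀ : Art k k) (tr : HomSet R res C₀), Function.Surjective tr.1 ∧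
      ∀ p, tr.1 p = 0 → p ∈ maximalIdeal R ^ (m + 1) :=
    ⟨_, ArtLib.pqMk hres hsub, ArtLib.pqMk_surjective hres hsub, fun p hp => (ArtLib.pqMk_eq_zero hres hsub).1 hp⟩
  haveI := ArtLib.finite_carrier C₀
  obtain ⟨N, g, hg⟩ := Module.Finite.exists_fin (R := k) (M := C₀)
  obtain ⟨θ, hθ⟩ : ∃ θ : MvPolynomial (ULift.{u} (Fin N)) k →ₐ[k] C₀,
      θ = MvPolynomial.aeval fun i => g i.down := ⟨_, rfl⟩
  have hθs : Function.Surjective θ := fun a => by
    have : a ∈ Submodule.span k (Set.range g) := hg ▸ Submodule.mem_top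
    induction this using Submodule.span_induction with
    | mem y hy =>
      obtain ⟨i, rfl⟩ := hy
      exact ⟨MvPolynomial.X ⟨i⟩, by rw [hθ, MvPolynomial.aeval_X]⟩
    | zero => exact ⟨0, map_zero _⟩
    | add y z _ _ ihy ihz =>
      obtain ⟨a, rfl⟩ := ihy
      obtain ⟨b, rfl⟩ := ihz
      exact ⟨a + b, map_add _ _ _⟩
    | smul r y _ ihy =>
      obtain ⟨a, rfl⟩ := ihy
      exact ⟨r • a, map_smul _ _ _⟩
  obtain ⟨resP, hresP⟩ : ∃ resP : MvPolynomial (ULift.{u} (Fin N)) k →ₐ[k] k, resP = C₀.res.comp θ := ⟨_, rfl⟩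
  have hresPs : Function.Surjective resP := hresP ▸ C₀.res_surjective.comp hθs
  obtain ⟨θ', hθ'⟩ : ∃ θ' : HomSet _ resP C₀, θ'.1 = θ := ⟨⟨θ, hresP.symm⟩, rfl⟩
  have hK : ArtLib.IsSub resP (RingHom.ker θ'.1) := by
    obtain ⟨e, he⟩ := ArtLib.homSet_pow θ'
    exact ⟨fun p hp => (ArtLib.homSet_res θ' p).symm.trans ((congrArg C₀.res hp).trans (map_zero _)), e,
      fun p hp => he p hp⟩
  have hK2 : ArtLib.IsSub resP (RingHom.ker θ'.1 * RingHom.ker θ'.1) := by
    obtain ⟨e, he⟩ := hK.pow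
    refine ⟨fun p hp => hK.le p (Ideal.mul_le_left hp), e + e, ?_⟩
    rw [pow_add]
    exact Ideal.mul_mono he he
  -- lift `θ` to `A`
  have hψC : ∀ r, tr.1 r = 0 → ψ r = 0 := fun r hr => hm r (Ideal.pow_le_pow_right (Nat.le_succ m) (htr0 r hr))
  let ψm : C₀ →ₐ[k] A ⧸ J := AlgHom.liftOfSurjective tr.1 htr ψ fun r hr => hψC r hr
  have hψm : ∀ r, ψm (tr.1 r) = ψ r := fun r => AlgHom.liftOfSurjective_apply _ _ _ _ r
  choose a ha using fun i : ULift.{u} (Fin N) => Ideal.Quotient.mk_surjective (ψm (g i.down))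
  obtain ⟨θA, hθA⟩ : ∃ θA : MvPolynomial (ULift.{u} (Fin N)) k →ₐ[k] A, θA = MvPolynomial.aeval a := ⟨_, rfl⟩
  have hcomm : (Ideal.Quotient.mkₐ k J).comp θA = ψm.comp θ := MvPolynomial.algHom_ext fun i => by
    rw [AlgHom.comp_apply, AlgHom.comp_apply, hθA, hθ, MvPolynomial.aeval_X, MvPolynomial.aeval_X]
    exact ha i
  have hkill : ∀ p ∈ RingHom.ker θ'.1 * RingHom.ker θ'.1, θA p = 0 := by
    have hKJ : ∀ p ∈ RingHom.ker θ'.1, θA p ∈ J := fun p hp => by
      refine Ideal.Quotient.eq_zero_iff_mem.1 ((AlgHom.congr_fun hcomm p).trans ?_)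
      rw [AlgHom.comp_apply, show θ p = 0 from hθ' ▸ hp, map_zero]
    intro p hp
    induction hp using Submodule.mul_induction_on' with
    | mem_mul_mem x hx y hy =>
      have := Ideal.mul_mem_mul (hKJ x hx) (hKJ y hy)
      rw [← sq, hJ, Ideal.mem_bot, ← map_mul] at this
      exact this
    | add x _ y _ hx hy => rw [map_add, hx, hy, add_zero]
  obtain ⟨i, hi⟩ : ∃ i : ArtLib.pq hresPs hK2 ⟶ C₀, ∀ p, i ((ArtLib.pqMk hresPs hK2).1 p) = θ'.1 p :=
    ⟨ArtLib.pqLift hresPs hK2 θ' fun p hp => Ideal.mul_le_left hp, fun _ => rfl⟩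
  have his : Function.Surjective i := fun b => by
    obtain ⟨p, rfl⟩ := hθs b
    exact ⟨(ArtLib.pqMk hresPs hK2).1 p, by rw [hi, hθ']⟩
  obtain ⟨φ, hφ⟩ := h i his tr
  refine ⟨(Ideal.Quotient.liftₐ _ θA hkill).comp φ.1, AlgHom.ext fun r => ?_⟩
  obtain ⟨p, hp⟩ := ArtLib.pqMk_surjective hresPs hK2 (φ.1 r)
  have h1 : i (φ.1 r) = tr.1 r := AlgHom.congr_fun (congrArg Subtype.val hφ) r
  rw [← hp, hi, hθ'] at h1
  change Ideal.Quotient.mkₐ k J (Ideal.Quotient.liftₐ _ θA hkill (φ.1 r)) = ψ r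
  rw [← hp, ← hψm, ← h1]
  exact AlgHom.congr_fun hcomm p

end HilbSmoothLib
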