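import Groth.Agent.HomRestrLib.Basic
import Groth.Agent.AVIndexLib.Index
import Groth.Agent.MiscFlat6.QALocus
import Groth.Agent.HomCohLib.Adj

/-!
# The normal sheaf of a closed immersion and of its image
-/

set_option autoImplicit false
set_option linter.style.haveILetI false
set_option linter.unusedSectionVars false
set_option backward.isDefEq.respectTransparency false
set_option backward.isDefEq.respectTransparency.types false
universe u

open CategoryTheory CategoryTheory.Limits AlgebraicGeometry

noncomputable section

namespace HilbSmoothLib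

/-- Vanishing of `Hⁿ` of the normal sheaf passes to the image. -/
theorem subsingleton_normal_image {X Y : Scheme.{u}} (i : Y ⟶ X) [IsClosedImmersion i]
    [DCoh.HasSheafHom (Omega.conormal i)] [DCoh.HasSheafHom (Omega.conormal i.ker.subschemeι)] (n : ℕ)
    (h : Subsingleton (Coh.HH Y ((DCoh.sheafHom (Omega.conormal i)).obj (Coh.structureModule Y)) n)) :
    Subsingleton (Coh.HH i.ker.subscheme ((DCoh.sheafHom (Omega.conormal i.ker.subschemeι)).obj
      (Coh.structureModule i.ker.subscheme)) n) := by
  haveI : IsIso i.toImage := inferInstance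
  let e : i.ker.subscheme ⟶ Y := inv i.toImage
  have he : e ≫ i = i.ker.subschemeι := by
    rw [IsIso.inv_comp_eq]
    exact i.toImage_imageι.symm
  let C := Omega.conormal i
  let C' := Omega.conormal i.ker.subschemeι
  let c : C.restrict e ≅ C' := (Scheme.Modules.restrictFunctorIsoPullback e).app C ≪≫
    (Scheme.Modules.pullbackComp e i).app _ ≪≫ (Scheme.Modules.pullbackCongr he).app _ ≪≫
    (Scheme.Modules.pullback i.ker.subschemeι).mapIso (eqToIso (congrArg ClSub.idealMod i.ker.ker_subschemeι.symm))
  obtain ⟨o⟩ : Nonempty ((Coh.structureModule Y).restrict e ≅ Coh.structureModule i.ker.subscheme) :=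
    MiscFlat6.nonempty_restrict_structureModule e
  let G := (DCoh.sheafHom C').obj (Coh.structureModule i.ker.subscheme)
  let a : PnDualLib.homFun (C.restrict e) ≅ DCoh.sheafHom C' :=
    ((HomCohLib.homAdj (C.restrict e)).ofNatIsoLeft ((DCoh.tensorBi (X := i.ker.subscheme)).mapIso c)).rightAdjointUniq
      (DCoh.sheafHomAdj C')
  let t : G ≅ (Scheme.Modules.pullback e).obj ((DCoh.sheafHom C).obj (Coh.structureModule Y)) :=
    (a.app _).symm ≪≫ (PnDualLib.homFun (C.restrict e)).mapIso o.symm ≪≫
      (asIso (Groth.Agent.HomRestrLib.restrHom e C (Coh.structureModule Y))).symm ≪≫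
      (Scheme.Modules.restrictFunctorIsoPullback e).app _ ≪≫
      (Scheme.Modules.pullback e).mapIso (HomCohLib.sheafHomIso (M := C) (Coh.structureModule Y)).symm
  exact SerreVanLib.subsingleton_HH_of_iso t n ((AVIndexLib.subsingleton_HH_iff_of_iso e _ n).2 h)

end HilbSmoothLib
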