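import Groth.Agent.HilbSmoothLib.Regular
import Groth.Agent.HilbPtsLib.Basic
import Groth.Prelude.Def_ArtFun6
import Groth.Prelude.Def_FGA

/-!
# A Hilbert scheme is regular at a point with smooth local Hilbert functor
-/

set_option autoImplicit false
set_option linter.style.haveILetI false
set_option linter.unusedSectionVars false
set_option backward.isDefEq.respectTransparency false
set_option backward.isDefEq.respectTransparency.types false
set_option maxHeartbeats 1000000
universe u

open CategoryTheory CategoryTheory.Limits AlgebraicGeometry IsLocalRing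

noncomputable section

namespace HilbSmoothLib

variable {k : Type u} [Field k]

theorem exists_of_point {H : Scheme.{u}} {B : CommRingCat.{u}} [IsLocalRing B] (g : Spec B ⟶ H) {p : H}
    (hg : g (closedPoint B) = p) :
    ∃ ψ : H.presheaf.stalk p ⟶ B, Spec.map ψ ≫ H.fromSpecStalk p = g := by
  subst hg
  exact ⟨Scheme.stalkClosedPointTo g, Scheme.Spec_stalkClosedPointTo_fromSpecStalk g⟩

theorem spec_map_fromSpecStalk_injective {H : Scheme.{u}} {B : CommRingCat.{u}} {p : H}
    {φ ψ : H.presheaf.stalk p ⟶ B} (h : Spec.map φ ≫ H.fromSpecStalk p = Spec.map ψ ≫ H.fromSpecStalk p) :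
    φ = ψ :=
  Spec.map_injective ((cancel_mono (H.fromSpecStalk p)).1 h)

theorem isRegularLocalRing_stalk {X : Scheme.{u}} (f : X ⟶ Spec (CommRingCat.of k)) [IsProper f]
    (H : Over (Spec (CommRingCat.of k))) (Z : FGA.HilbSet f H) (hH : FGA.HilbRepresentedBy f H Z)
    (y : Over.mk (𝟙 (Spec (CommRingCat.of k))) ⟶ H) (I₀ : X.IdealSheafData)
    (hy : FGA.hilbPull f y Z.1 = I₀.comap (pullback.fst f (Over.mk (𝟙 (Spec (CommRingCat.of k)))).hom))
    (hsm : ArtFun.IsSmoothFunctor (ArtFun.localHilb X f I₀)) :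
    IsRegularLocalRing (H.left.presheaf.stalk (y.left.base (IsLocalRing.closedPoint k))) := by
  haveI := hH.1
  let p : H.left := y.left.base (IsLocalRing.closedPoint k)
  let R : CommRingCat.{u} := H.left.presheaf.stalk p
  let a : CommRingCat.of k ⟶ R := Spec.preimage (H.left.fromSpecStalk p ≫ H.hom)
  have ha : Spec.map a = H.left.fromSpecStalk p ≫ H.hom := Spec.map_preimage _
  letI : Algebra k R := a.hom.toAlgebra
  obtain ⟨ρ, hρ⟩ := exists_of_point (B := CommRingCat.of k) y.left (p := p) rfl
  have haρ : a ≫ ρ = 𝟙 _ := Spec.map_injective (by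
    rw [Spec.map_comp, ha, reassoc_of% hρ, Spec.map_id]
    exact Over.w y)
  let res : R →ₐ[k] k :=
    { ρ.hom with commutes' := fun c => congr($(haρ) c) }
  have hres : CommRingCat.ofHom res.toRingHom = ρ := rfl
  refine isRegularLocalRing_of_isSmoothFunctor R res fun B A μ hμ φ => ?_
  -- the family over `A`
  let TA : Over (Spec (CommRingCat.of k)) := Over.mk (ArtFun.Art.specOver A)
  let TB : Over (Spec (CommRingCat.of k)) := Over.mk (ArtFun.Art.specOver B)
  haveI : IsNoetherianRing (CommRingCat.of A) := inferInstanceAs (IsNoetherianRing A)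
  haveI : IsNoetherianRing (CommRingCat.of B) := inferInstanceAs (IsNoetherianRing B)
  haveI : IsLocallyNoetherian TA.left := inferInstanceAs (IsLocallyNoetherian (Spec (CommRingCat.of A)))
  haveI : IsLocallyNoetherian TB.left := inferInstanceAs (IsLocallyNoetherian (Spec (CommRingCat.of B)))
  let gA : TA ⟶ H := Over.homMk (Spec.map (CommRingCat.ofHom φ.1.toRingHom) ≫ H.left.fromSpecStalk p) (by
    show (Spec.map _ ≫ _) ≫ H.hom = ArtFun.Art.specOver A
    rw [Category.assoc, ← ha, ← Spec.map_comp]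
    refine congrArg Spec.map ?_
    ext c
    exact φ.1.commutes c)
  have hgA : ArtFun.Art.specRes A ≫ gA.left = y.left := by
    show Spec.map _ ≫ Spec.map _ ≫ _ = _
    rw [← Category.assoc, ← Spec.map_comp, ← hρ, ← hres]
    congr 2
    exact congrArg CommRingCat.ofHom (congrArg AlgHom.toRingHom φ.2)
  have hfl : ∀ {T : Over (Spec (CommRingCat.of k))} (g : T ⟶ H),
      IsProper ((Z.1.comap (PicF.XTmap f g)).subschemeι ≫ PicF.XTproj f T) ∧
        Flat ((Z.1.comap (PicF.XTmap f g)).subschemeι ≫ PicF.XTproj f T) := fun {T} g => by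
    have hsq0 : IsPullback (PicF.XTmap f g) (PicF.XTproj f T) (PicF.XTproj f H) g.left := by
      rw [HilbPts.xtMap_eq]
      exact HilbPts.isPullback_m f g.left (Over.w g)
    have sq : IsPullback (pullback.snd (PicF.XTmap f g) Z.1.subschemeι)
        (pullback.fst (PicF.XTmap f g) Z.1.subschemeι ≫ PicF.XTproj f T)
        (Z.1.subschemeι ≫ PicF.XTproj f H) g.left :=
      IsPullback.paste_vert (IsPullback.of_hasPullback (PicF.XTmap f g) Z.1.subschemeι).flip hsq0
    rw [← Scheme.IdealSheafData.comapIso_hom_fst, Category.assoc]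
    exact ⟨(MorphismProperty.cancel_left_of_respectsIso @IsProper _ _).2
        (MorphismProperty.of_isPullback (P := @IsProper) sq Z.2.1),
      (MorphismProperty.cancel_left_of_respectsIso @Flat _ _).2
        (MorphismProperty.of_isPullback (P := @Flat) sq Z.2.2)⟩
  let σ : X ⟶ PicF.XT f (Over.mk (𝟙 (Spec (CommRingCat.of k)))) :=
    pullback.lift (𝟙 X) f (show 𝟙 X ≫ f = f ≫ 𝟙 _ by rw [Category.id_comp, Category.comp_id])
  have hincl : ArtFun.Art.XAincl f A ≫ PicF.XTmap f gA = σ ≫ PicF.XTmap f y := by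
    apply pullback.hom_ext
    · simp only [PicF.XTmap, Category.assoc, pullback.lift_fst, Category.comp_id, σ]
      exact ArtFun.Art.XAincl_fst f A
    · simp only [PicF.XTmap, Category.assoc, pullback.lift_snd, σ]
      rw [← Category.assoc, ← Category.assoc]
      refine (congrArg (· ≫ gA.left) (ArtFun.Art.XAincl_snd f A)).trans ?_
      rw [Category.assoc, hgA]
      exact congrArg (· ≫ y.left) (pullback.lift_snd _ _ _).symm
  let IA : (ArtFun.localHilb X f I₀).obj A := ⟨Z.1.comap (PicF.XTmap f gA), (hfl gA).2, by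
    rw [← Scheme.IdealSheafData.comap_comp]
    refine (congrArg Z.1.comap hincl).trans ?_
    rw [Scheme.IdealSheafData.comap_comp, HilbPts.xtMap_eq, ← HilbPts.pull_eq]
    refine (congrArg (fun J => J.comap σ) hy).trans ?_
    rw [← Scheme.IdealSheafData.comap_comp]
    refine (congrArg I₀.comap (pullback.lift_fst _ _ _)).trans ?_
    exact I₀.comap_id⟩
  obtain ⟨IB, hIB⟩ := hsm μ hμ IA
  haveI : IsProper (ArtFun.Art.XApr f B) :=
    MorphismProperty.of_isPullback (P := @IsProper) (IsPullback.of_hasPullback _ _) inferInstance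
  let YB : FGA.HilbSet f TB := ⟨IB.1, (inferInstance : IsProper (IB.1.subschemeι ≫ ArtFun.Art.XApr f B)), IB.2.1⟩
  obtain ⟨gB, hgB, -⟩ := hH.2 TB YB
  let μT : TA ⟶ TB := Over.homMk (ArtFun.Art.specMap μ) (ArtFun.Art.specOver_comp μ)
  have hcomp : μT ≫ gB = gA := by
    obtain ⟨g, -, hguniq⟩ := hH.2 TA ⟨IA.1, hfl gA⟩
    refine (hguniq _ ?_).trans (hguniq _ ?_).symm
    · show FGA.hilbPull f (μT ≫ gB) Z.1 = IA.1
      refine (HilbPts.pull_eq f (μT ≫ gB) Z.1).trans ?_
      have hm : HilbPts.m f (μT ≫ gB).left (Over.w (μT ≫ gB)) =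
          ArtFun.Art.XAmap f μ ≫ HilbPts.m f gB.left (Over.w gB) := by
        apply pullback.hom_ext
        · rw [HilbPts.m_fst, Category.assoc, HilbPts.m_fst]
          exact (ArtFun.Art.XAmap_fst f μ).symm
        · rw [HilbPts.m_snd, Category.assoc, HilbPts.m_snd]
          refine Eq.trans (Category.assoc _ _ _).symm (Eq.trans ?_ (Category.assoc _ _ _))
          exact congrArg (· ≫ gB.left) (ArtFun.Art.XAmap_snd f μ).symm
      rw [hm, Scheme.IdealSheafData.comap_comp, ← HilbPts.pull_eq]
      refine (congrArg (fun J => J.comap (ArtFun.Art.XAmap f μ)) hgB).trans ?_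
      exact congrArg Subtype.val hIB
    · show FGA.hilbPull f gA Z.1 = IA.1
      refine (HilbPts.pull_eq f gA Z.1).trans ?_
      rw [← HilbPts.xtMap_eq]
  -- the point
  have hleft : ArtFun.Art.specMap μ ≫ gB.left = gA.left := congrArg CommaMorphism.left hcomp
  have hpt : gB.left (closedPoint B) = p := by
    haveI : Subsingleton (PrimeSpectrum B) :=
      ⟨fun p q => PrimeSpectrum.ext ((IsLocalRing.eq_maximalIdeal (IsArtinianRing.isMaximal_of_isPrime p.asIdeal)).trans
        (IsLocalRing.eq_maximalIdeal (IsArtinianRing.isMaximal_of_isPrime q.asIdeal)).symm)⟩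
    let z : PrimeSpectrum A := (ArtFun.Art.specRes A) (closedPoint k)
    refine (congrArg gB.left (Subsingleton.elim (α := PrimeSpectrum B) _ ((ArtFun.Art.specMap μ) z))).trans ?_
    refine (congrArg (fun h : Spec (CommRingCat.of A) ⟶ H.left => h z) hleft).trans ?_
    exact congrArg (fun h : Spec (CommRingCat.of k) ⟶ H.left => h (closedPoint k)) hgA
  obtain ⟨ψ, hψ⟩ := exists_of_point (B := CommRingCat.of B) gB.left hpt
  have haψ : ∀ c, ψ.hom (algebraMap k R c) = algebraMap k B c := fun c => by
    have h1 : a ≫ ψ = CommRingCat.ofHom (algebraMap k B) := Spec.map_injective (by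
      rw [Spec.map_comp, ha, reassoc_of% hψ]
      exact Over.w gB)
    exact congr($(h1) c)
  let φB : R →ₐ[k] B := { ψ.hom with commutes' := haψ }
  have hφB : μ.toAlgHom.comp φB = φ.1 := by
    have h1 : ψ ≫ CommRingCat.ofHom μ.toAlgHom.toRingHom = CommRingCat.ofHom φ.1.toRingHom :=
      spec_map_fromSpecStalk_injective (by
        rw [Spec.map_comp, Category.assoc, hψ]
        exact hleft)
    exact AlgHom.ext fun r => congr($(h1) r)
  refine ⟨⟨φB, ?_⟩, Subtype.ext hφB⟩
  rw [← φ.2, ← hφB, ← AlgHom.comp_assoc, μ.res_comp]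

end HilbSmoothLib
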